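import Cfsg.Agent.PQDegree.Tools
import Cfsg.Agent.Blocks.PrincipalSolvable
import Cfsg.Agent.CharBasics.Extra
import Cfsg.Agent.HallHigmanB.TopLayer
import Cfsg.Agent.CoprimeClasses.Count
import Cfsg.Agent.Hall.Schmidt

/-!
A `p`- and `q`-solvable group with trivial `p'`-core in which the irreducible characters of `p'`-degree have
`q'`-degree has order prime to `q`.
-/

set_option autoImplicit false
set_option linter.style.haveILetI false
set_option linter.unusedSectionVars false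

namespace CfsgLib.PQDegree

open Cfsg CfsgLib.CharBasics
open scoped Pointwise commutatorElement

universe u

variable {p q : ℕ} [hp : Fact p.Prime] [hq : Fact q.Prime]

/-- The degree hypothesis. -/
def DegHyp (p q : ℕ) (G : Type*) [Group G] : Prop :=
  ∀ χ : IrrCharacter G, ¬ p ∣ charDegree (χ : G → ℂ) → ¬ q ∣ charDegree (χ : G → ℂ)

theorem degHyp_map {G H : Type*} [Group G] [Group H] (f : G →* H) (hf : Function.Surjective f)
    (h : DegHyp p q G) : DegHyp p q H := by
  intro χ hχ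
  have e : charDegree (fun x => (χ : H → ℂ) (f x)) = charDegree (χ : H → ℂ) := by
    simp only [charDegree, map_one]
  have := h ⟨_, CfsgLib.Clifford.isIrrCharacter_comp χ.2 f hf⟩
  simp only [e] at this
  exact this hχ

/-- The step with an abelian self-centralizing normal `p`-subgroup. -/
theorem abelian_step {X : Type*} [Group X] [Finite X] (hpq : p ≠ q) (U : Subgroup X) [U.Normal]
    (hab : IsMulCommutative U) (hcent : Subgroup.centralizer (U : Set X) ≤ U) (hUp : IsPGroup p U)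
    (hX : DegHyp p q X) (L T : Subgroup (X ⧸ U)) [L.Normal] [T.Normal] (hLT : L ≤ T)
    (hTp : ¬ p ∣ Nat.card T) (hLq : ¬ q ∣ Nat.card L) {a : ℕ} (ha : a ≠ 0)
    (hTL : Nat.card T = Nat.card L * q ^ a) : False := by
  classical
  haveI : Fintype X := Fintype.ofFinite X
  haveI := Fintype.ofFinite U
  haveI := Fintype.ofFinite L
  haveI := hab
  set π := QuotientGroup.mk' U with hπ
  have hπs := QuotientGroup.mk'_surjective U
  have hker : π.ker = U := QuotientGroup.ker_mk' U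
  obtain ⟨k, hk⟩ := IsPGroup.iff_card.1 hUp
  have hLp : ¬ p ∣ Nat.card L := fun h => hTp (h.trans (Subgroup.card_dvd_of_le hLT))
  set T₀ := T.comap π with hT₀
  have hUT₀ : U ≤ T₀ := hker ▸ (Subgroup.comap_mono bot_le : (⊥ : Subgroup (X ⧸ U)).comap π ≤ T₀)
  have hcT₀ : Nat.card T₀ = Nat.card U * Nat.card T := CfsgLib.PCore.card_comap_mk' U T
  obtain ⟨R₀⟩ : Nonempty (Sylow q T₀) := inferInstance
  set R : Subgroup X := (R₀ : Subgroup T₀).map T₀.subtype with hR
  have hRp : IsPGroup q R := R₀.2.map _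
  have hRc : Nat.card R = q ^ a := by
    rw [hR, Subgroup.card_map_of_injective T₀.subtype_injective, R₀.card_eq_multiplicity, hcT₀, hTL, hk]
    congr 1
    rw [Nat.factorization_mul (pow_ne_zero _ hp.out.ne_zero) (Nat.mul_ne_zero Nat.card_pos.ne'
        (pow_ne_zero _ hq.out.ne_zero)),
      Nat.factorization_mul Nat.card_pos.ne' (pow_ne_zero _ hq.out.ne_zero)]
    simp only [Finsupp.add_apply, Nat.factorization_eq_zero_of_not_dvd hLq, hp.out.factorization_pow,
      hq.out.factorization_pow, Finsupp.single_eq_same, Finsupp.single_eq_of_ne hpq.symm, zero_add]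
  have hUR : U ⊓ R = ⊥ := Subgroup.inf_eq_bot_of_coprime (by
    rw [hk, hRc]; exact Nat.Coprime.pow _ _ ((Nat.coprime_primes hp.out hq.out).2 hpq))
  have hRU : ∀ x ∈ U, x ∈ Subgroup.normalizer (R : Set X) → x ∈ Subgroup.centralizer (R : Set X) := by
    intro x hx hxN
    rw [Subgroup.mem_centralizer_iff]
    intro r hr
    have : x * r * x⁻¹ * r⁻¹ ∈ U ⊓ R := by
      refine ⟨?_, R.mul_mem ((Subgroup.mem_normalizer_iff.1 hxN r).1 hr) (R.inv_mem hr)⟩
      rw [mul_assoc, mul_assoc, ← mul_assoc r]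
      exact U.mul_mem hx ((inferInstance : U.Normal).conj_mem _ (U.inv_mem hx) r)
    rw [hUR, Subgroup.mem_bot, mul_inv_eq_one, mul_inv_eq_iff_eq_mul] at this
    exact this.symm
  set Rb := R.map π with hRb
  have hinjR : Function.Injective (π.comp R.subtype) := by
    rw [← MonoidHom.ker_eq_bot_iff, eq_bot_iff]
    intro r hr
    have : (r : X) ∈ U ⊓ R := ⟨(QuotientGroup.eq_one_iff _).1 hr, r.2⟩
    rw [hUR, Subgroup.mem_bot] at this
    exact Subgroup.mem_bot.2 (Subtype.ext this)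
  have hRbc : Nat.card Rb = q ^ a := by
    rw [hRb, show R.map π = (π.comp R.subtype).range by
      rw [MonoidHom.range_comp, Subgroup.range_subtype]]
    rw [← Nat.card_congr (MonoidHom.ofInjective hinjR).toEquiv, hRc]
  have hRbT : Rb ≤ T := by
    rintro _ ⟨r, hr, rfl⟩
    obtain ⟨r', -, rfl⟩ := hr
    exact r'.2
  have hLR : L ⊔ Rb = T := by
    refine Subgroup.eq_of_le_of_card_ge (sup_le hLT hRbT) ?_
    have h := CfsgLib.Hall.card_sup_mul_card_inf L Rb
    have hd : L ⊓ Rb = ⊥ := Subgroup.inf_eq_bot_of_coprime (by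
      rw [hRbc]; exact ((hq.out.coprime_iff_not_dvd.2 hLq).symm).pow_right a)
    rw [hd, Subgroup.card_bot, mul_one, hRbc] at h
    rw [h, hTL]
  set N := Subgroup.normalizer (R : Set X) with hN
  haveI : T₀.Normal := (inferInstance : T.Normal).comap π
  have hfrat : N ⊔ T₀ = ⊤ := Sylow.normalizer_sup_eq_top R₀
  obtain ⟨S₀⟩ : Nonempty (Sylow p N) := inferInstance
  set S : Subgroup X := (S₀ : Subgroup N).map N.subtype with hS
  have hSp : IsPGroup p S := S₀.2.map _
  have hSN : S ≤ N := Subgroup.map_subtype_le _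
  set Sb := S.map π with hSb
  have hSbp : IsPGroup p Sb := hSp.map π
  have hSR : Sb ≤ Subgroup.normalizer (Rb : Set (X ⧸ U)) :=
    (Subgroup.map_mono hSN).trans (Subgroup.le_normalizer_map _)
  have hSbidx : ¬ p ∣ Sb.index := by
    set Nb := N.map π with hNb
    have hle : Sb ≤ Nb := Subgroup.map_mono hSN
    rw [← Subgroup.relIndex_mul_index hle, hp.out.dvd_mul]
    rintro (h | h)
    · let f := π.subgroupMap N
      have hf : Function.Surjective f := π.subgroupMap_surjective N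
      have he : ((Sylow.mapSurjective hf S₀ : Sylow p Nb) : Subgroup Nb) = Sb.subgroupOf Nb := by
        rw [Sylow.coe_mapSurjective]
        ext y
        rw [Subgroup.mem_subgroupOf]
        constructor
        · rintro ⟨z, hz, rfl⟩; exact ⟨z, ⟨z, hz, rfl⟩, rfl⟩
        · rintro ⟨z, ⟨z', hz', rfl⟩, hzy⟩; exact ⟨z', hz', Subtype.ext hzy⟩
      exact (Sylow.mapSurjective hf S₀).not_dvd_index (he ▸ h)
    · have htop : T ⊔ Nb = ⊤ := by
        rw [← Subgroup.map_top_of_surjective π hπs, ← hfrat, Subgroup.map_sup, hT₀,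
          Subgroup.map_comap_eq_self_of_surjective hπs, sup_comm]
      have h1 := CfsgLib.Hall.card_sup_mul_card_inf T Nb
      rw [htop, Subgroup.card_top, ← Subgroup.card_mul_index Nb] at h1
      have h2 : Nb.index ∣ Nat.card T :=
        ⟨Nat.card ↥(T ⊓ Nb), Nat.eq_of_mul_eq_mul_left (Nat.card_pos (α := Nb)) (by rw [← mul_assoc, h1]; ring)⟩
      exact hTp (h.trans h2)
  -- characters of `L`
  have hXb : DegHyp p q (X ⧸ U) := degHyp_map π hπs hX
  have hfixL : L ⊓ Subgroup.centralizer (Sb : Set (X ⧸ U)) ≤ Subgroup.centralizer (Rb : Set (X ⧸ U)) := by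
    refine centralizer_le (p := p) (q := q) Sb Rb L hSbp (hRp.map π) hSR hLp hLq fun θ hθ => ?_
    set H := L ⊔ Sb with hH
    haveI := Fintype.ofFinite H
    haveI := Fintype.ofFinite (L.subgroupOf H)
    have hLH : L ≤ H := le_sup_left
    have hSH : Sb ≤ H := le_sup_right
    let e := Subgroup.subgroupOfEquivOfLe hLH
    let θK : IrrCharacter (L.subgroupOf H) :=
      ⟨fun n => (θ : L → ℂ) (e n), CfsgLib.Clifford.isIrrCharacter_comp θ.2 e.toMonoidHom e.surjective⟩
    have hHin : H ≤ CfsgLib.Clifford.inertia (G := X ⧸ U) (θ : L → ℂ) :=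
      sup_le (CfsgLib.Clifford.le_inertia (isClassFunction (isCharacter_of_irr θ.2))) hθ
    have hcopH : (L.subgroupOf H).index.Coprime (Nat.card (L.subgroupOf H)) := by
      rw [Nat.card_congr e.toEquiv]
      have hg : Function.Surjective ((QuotientGroup.mk' (L.subgroupOf H)).comp (Subgroup.inclusion hSH)) := by
        intro y
        obtain ⟨⟨y, hy⟩, rfl⟩ := QuotientGroup.mk'_surjective _ y
        obtain ⟨l, hl, s, hs, rfl⟩ := Subgroup.mem_sup_of_normal_left.1 hy
        refine ⟨⟨s, hs⟩, QuotientGroup.eq.2 (show s⁻¹ * (l * s) ∈ L from ?_)⟩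
        have := (inferInstance : L.Normal).conj_mem l hl s⁻¹
        rw [inv_inv] at this
        rwa [← mul_assoc]
      obtain ⟨i, hi⟩ := IsPGroup.iff_card.1 hSbp
      rw [Subgroup.index_eq_card]
      exact ((hp.out.coprime_iff_not_dvd.2 hLp).pow_left i).coprime_dvd_left
        (hi ▸ Subgroup.card_dvd_of_surjective _ hg)
    obtain ⟨η, hη⟩ := CfsgLib.CoprimeDegree.exists_extension hcopH θK fun h => funext fun n => by
      have h1 := congrFun (CfsgLib.Clifford.mem_inertia.1 (hHin h.2)) (e n)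
      rw [CfsgLib.Clifford.conjFun_apply] at h1
      rw [CfsgLib.Clifford.conjFun_apply]
      refine Eq.trans ?_ h1
      exact congrArg (θ : L → ℂ) (Subtype.ext rfl)
    have hηd : charDegree (η : H → ℂ) = charDegree (θ : L → ℂ) := by
      have h1 := hη 1
      rw [Subgroup.coe_one, apply_one (isCharacter_of_irr η.2), show (θK : L.subgroupOf H → ℂ) 1 = (θ : L → ℂ) 1 from
        congrArg (θ : L → ℂ) (map_one e), apply_one (isCharacter_of_irr θ.2)] at h1
      exact_mod_cast h1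
    have hidxH : ¬ p ∣ H.index := fun h => hSbidx (h.trans (Subgroup.index_dvd_of_le hSH))
    have hres : (fun n : L => (η : H → ℂ) ⟨(n : X ⧸ U), hLH n.2⟩) = (θ : L → ℂ) := by
      funext n
      have h1 := hη (e.symm n)
      rw [show (θK : L.subgroupOf H → ℂ) (e.symm n) = (θ : L → ℂ) n from congrArg (θ : L → ℂ) (e.apply_symm_apply n)] at h1
      exact h1
    obtain ⟨χ, hχp, hχ⟩ := exists_over H hidxH η
      (hηd ▸ fun h => hLp (h.trans (degree_dvd θ))) L hLH θ
      (by rw [hres, classInner_self θ.2]; exact one_ne_zero)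
    have hI := not_dvd_inertia L χ θ hχ (hXb χ hχp)
    set In := CfsgLib.Clifford.inertia (G := X ⧸ U) (θ : L → ℂ) with hIn
    obtain ⟨c, hc, hcr⟩ := exists_conj_le (p := p) (q := q) Sb Rb L hSbp (hRp.map π) hSR hLp hLq hpq
      (In ⊓ T) (hLR.symm ▸ inf_le_right)
      (fun s hs => Subgroup.mem_normalizer_fintype fun x hx =>
        ⟨In.mul_mem (In.mul_mem (hθ hs) hx.1) (In.inv_mem (hθ hs)), (inferInstance : T.Normal).conj_mem x hx.2 s⟩)
      (hLR.symm ▸ fun h => hI (h.trans (relIndex_dvd_index_of_normal_right In T)))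
    intro r hr
    have hcI : c ∈ In := hHin (hLH hc.1)
    have := In.mul_mem (In.mul_mem (In.inv_mem hcI) (hcr r hr).1) hcI
    simpa [mul_assoc] using this
  -- linear characters of `U` trivial on `C`
  set C := U ⊓ Subgroup.centralizer (R : Set X) with hC
  haveI : (C.subgroupOf U).Normal := ⟨fun n hn g => by
    have : g * n = n * g := hab.is_comm.comm g n
    rwa [this, mul_inv_cancel_right]⟩
  haveI : IsMulCommutative (U ⧸ C.subgroupOf U) := ⟨⟨fun x y => by
    obtain ⟨x, rfl⟩ := QuotientGroup.mk'_surjective _ x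
    obtain ⟨y, rfl⟩ := QuotientGroup.mk'_surjective _ y
    rw [← map_mul, ← map_mul, hab.is_comm.comm x y]⟩⟩
  have hCU : C.subgroupOf U ≠ ⊤ := by
    intro h
    rw [Subgroup.subgroupOf_eq_top] at h
    have hR1 : R ≤ U := by
      refine le_trans (fun r hr => ?_) hcent
      exact Subgroup.mem_centralizer_iff.2 fun u hu =>
        (Subgroup.mem_centralizer_iff.1 (h hu).2 r hr).symm
    rw [inf_eq_right.2 hR1] at hUR
    rw [hUR, Subgroup.card_bot] at hRc
    exact (Nat.one_lt_pow ha hq.out.one_lt).ne hRc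
  let Λ := {f : U →* ℂ // ∀ c : U, (c : X) ∈ C → f c = 1}
  have hΛc : Nat.card Λ = Nat.card (U ⧸ C.subgroupOf U) := by
    rw [← CfsgLib.CoprimeClasses.card_hom_complex (A := U ⧸ C.subgroupOf U)]
    exact Nat.card_congr
      { toFun := fun f => QuotientGroup.lift (C.subgroupOf U) f.1 fun c hc => f.2 c hc
        invFun := fun g => ⟨g.comp (QuotientGroup.mk' _), fun c hc => by
          show g (QuotientGroup.mk' _ c) = 1
          rw [show QuotientGroup.mk' (C.subgroupOf U) c = 1 from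
            (QuotientGroup.eq_one_iff c).2 (Subgroup.mem_subgroupOf.2 hc), map_one]⟩
        left_inv := fun f => Subtype.ext (MonoidHom.ext fun u => rfl)
        right_inv := fun g => MonoidHom.ext fun x => by
          obtain ⟨x, rfl⟩ := QuotientGroup.mk'_surjective _ x
          rfl }
  have hCS : ∀ (s : S) (c : U), (c : X) ∈ C → ((MulAut.conjNormal (s : X) c : U) : X) ∈ C := by
    intro s c hc
    rw [MulAut.conjNormal_apply]
    refine ⟨(inferInstance : U.Normal).conj_mem _ hc.1 _, Subgroup.mem_centralizer_iff.2 fun r hr => ?_⟩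
    have h1 : (s : X)⁻¹ * r * (s : X) ∈ R := by
      have := (Subgroup.mem_normalizer_iff.1 (N.inv_mem (hSN s.2)) r).1 hr
      rwa [inv_inv] at this
    have h2 := Subgroup.mem_centralizer_iff.1 hc.2 _ h1
    calc r * ((s : X) * c * (s : X)⁻¹) = (s : X) * (((s : X)⁻¹ * r * s) * c) * (s : X)⁻¹ := by group
      _ = (s : X) * c * (s : X)⁻¹ * r := by rw [h2]; group
  letI : MulAction S Λ :=
    { smul := fun s f => ⟨f.1.comp (MulAut.conjNormal (s : X)⁻¹ : MulAut U).toMonoidHom, fun c hc =>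
        f.2 _ (by simpa using hCS s⁻¹ c hc)⟩
      one_smul := fun f => Subtype.ext (MonoidHom.ext fun u => congrArg f.1 (Subtype.ext (by simp)))
      mul_smul := fun s t f => Subtype.ext (MonoidHom.ext fun u => congrArg f.1 (Subtype.ext (by
        simp [mul_assoc]))) }
  have hpΛ : p ∣ Nat.card Λ := by
    rw [hΛc]
    obtain ⟨i, hi⟩ := IsPGroup.iff_card.1 (hUp.to_quotient (C.subgroupOf U))
    rw [hi]
    refine dvd_pow_self p fun h0 => hCU ?_
    rw [← Subgroup.index_eq_one, Subgroup.index_eq_card, hi, h0, pow_zero]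
  haveI : Finite Λ := Nat.finite_of_card_ne_zero (by rw [hΛc]; exact Nat.card_pos.ne')
  obtain ⟨⟨lam, hlamC⟩, hfix, hne⟩ := hSp.exists_fixed_point_of_prime_dvd_card_of_fixed_point Λ hpΛ
    (a := (⟨1, fun _ _ => rfl⟩ : Λ)) (fun s => Subtype.ext (MonoidHom.ext fun u => rfl))
  have hlamS : ∀ (s : X), s ∈ S → ∀ u : U, lam (MulAut.conjNormal s u) = lam u := by
    intro s hs u
    have h := DFunLike.congr_fun (congrArg Subtype.val (hfix ⟨s⁻¹, S.inv_mem hs⟩)) u
    refine Eq.trans ?_ h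
    exact congrArg lam (Subtype.ext (by simp))
  let θ : IrrCharacter U := ⟨fun u => lam u, CfsgLib.Clifford.isIrrCharacter_of_hom lam⟩
  -- the extension to `U S`
  set P := U ⊔ S with hP
  haveI := Fintype.ofFinite P
  have hdec : ∀ g : P, ∃ u : U, ∃ s ∈ S, (u : X) * s = g := fun g => by
    obtain ⟨u, hu, s, hs, h⟩ := Subgroup.mem_sup_of_normal_left.1 g.2
    exact ⟨⟨u, hu⟩, s, hs, h⟩
  choose fu fs hfs hfe using hdec
  have hwd : ∀ (g : P) (u : U) (s : X), s ∈ S → (u : X) * s = g → lam (fu g) = lam u := by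
    intro g u s hs he
    have h1 : ((u⁻¹ * fu g : U) : X) = s * (fs g)⁻¹ := by
      show (u : X)⁻¹ * (fu g : X) = s * (fs g)⁻¹
      calc (u : X)⁻¹ * (fu g : X) = (u : X)⁻¹ * ((fu g : X) * fs g) * (fs g)⁻¹ := by group
        _ = (u : X)⁻¹ * ((u : X) * s) * (fs g)⁻¹ := by rw [hfe, he]
        _ = s * (fs g)⁻¹ := by group
    have h2 : lam (u⁻¹ * fu g) = 1 := hlamC _ ⟨(u⁻¹ * fu g).2,
      hRU _ (u⁻¹ * fu g).2 (hSN (h1 ▸ S.mul_mem hs (S.inv_mem (hfs g))))⟩
    calc lam (fu g) = lam (u * (u⁻¹ * fu g)) := by rw [mul_inv_cancel_left]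
      _ = lam u := by rw [map_mul, h2, mul_one]
  let f : P →* ℂ :=
    { toFun := fun g => lam (fu g)
      map_one' := by rw [hwd 1 1 1 S.one_mem (by simp), map_one]
      map_mul' := fun g g' => by
        rw [hwd (g * g') (fu g * MulAut.conjNormal (fs g) (fu g')) (fs g * fs g') (S.mul_mem (hfs g) (hfs g')) (by
          rw [Subgroup.coe_mul, Subgroup.coe_mul, MulAut.conjNormal_apply, ← hfe g, ← hfe g']; group),
          map_mul, hlamS _ (hfs g)] }
  let ψ : IrrCharacter P := ⟨fun g => f g, CfsgLib.Clifford.isIrrCharacter_of_hom f⟩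
  have hψd : charDegree (ψ : P → ℂ) = 1 := by
    have h1 := apply_one (isCharacter_of_irr ψ.2)
    rw [show (ψ : P → ℂ) 1 = 1 from map_one f] at h1
    exact_mod_cast h1.symm
  have hPidx : ¬ p ∣ P.index := by
    have : P = Sb.comap π := by rw [hSb, Subgroup.comap_map_eq, hker, hP, sup_comm]
    rw [this, Subgroup.index_comap_of_surjective _ hπs]
    exact hSbidx
  have hUP : U ≤ P := le_sup_left
  have hres : (fun u : U => (ψ : P → ℂ) ⟨(u : X), hUP u.2⟩) = (θ : U → ℂ) :=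
    funext fun u => hwd ⟨(u : X), hUP u.2⟩ u 1 S.one_mem (mul_one _)
  obtain ⟨χ, hχp, hχ⟩ := exists_over P hPidx ψ (by rw [hψd]; exact hp.out.not_dvd_one) U hUP θ
    (by rw [hres, classInner_self θ.2]; exact one_ne_zero)
  have hI := not_dvd_inertia U χ θ hχ (hX χ hχp)
  set In := CfsgLib.Clifford.inertia (G := X) (θ : U → ℂ) with hIn
  set I₀ := In ⊓ T₀ with hI₀
  have hUI : U ≤ I₀ :=
    le_inf (CfsgLib.Clifford.le_inertia (isClassFunction (isCharacter_of_irr θ.2))) hUT₀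
  have hSIn : S ≤ In := fun s hs => CfsgLib.Clifford.mem_inertia.2 (funext fun u => by
    rw [CfsgLib.Clifford.conjFun_eq_comp]; exact hlamS s hs u)
  have hrel : (I₀.map π).relIndex T = I₀.relIndex T₀ := by
    conv_lhs => rw [← Subgroup.map_comap_eq_self_of_surjective hπs T]
    rw [Subgroup.relIndex_map_map, hker, sup_eq_left.2 hUI, sup_eq_left.2 hUT₀]
  obtain ⟨c, hc, hcr⟩ := exists_conj_le (p := p) (q := q) Sb Rb L hSbp (hRp.map π) hSR hLp hLq hpq
    (I₀.map π) (hLR.symm ▸ Subgroup.map_le_iff_le_comap.2 inf_le_right)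
    ((Subgroup.map_mono (show S ≤ Subgroup.normalizer (I₀ : Set X) from fun s hs =>
      Subgroup.mem_normalizer_fintype fun x hx =>
        ⟨In.mul_mem (In.mul_mem (hSIn hs) hx.1) (In.inv_mem (hSIn hs)),
          (inferInstance : T₀.Normal).conj_mem x hx.2 s⟩)).trans (Subgroup.le_normalizer_map _))
    (hLR.symm ▸ hrel ▸ fun h => hI (h.trans (relIndex_dvd_index_of_normal_right In T₀)))
  have hRIn : ∀ r ∈ R, r ∈ In := by
    intro r hr
    have hπr : π r ∈ Rb := Subgroup.mem_map_of_mem π hr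
    have h1 := hcr _ hπr
    rw [← Subgroup.mem_centralizer_iff.1 (hfixL hc) _ hπr, mul_inv_cancel_right] at h1
    obtain ⟨y, hy, hyr⟩ := h1
    have h2 : y⁻¹ * r ∈ U := QuotientGroup.eq.1 hyr
    simpa using In.mul_mem hy.1 (hUI h2).1
  -- hence `lam` is trivial
  obtain ⟨i, hi⟩ := IsPGroup.iff_card.1 hRp
  have hRnil : Group.IsSolvable R := by haveI := hRp.isNilpotent; infer_instance
  have hsup := CfsgLib.CoprimeAction.commutator_sup_centralizer (A := R) (K := U)
    (by rw [Subgroup.normalizer_eq_top_iff.2 ‹U.Normal›]; exact le_top)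
    (by rw [hi, hk]; exact Nat.Coprime.pow _ _ ((Nat.coprime_primes hq.out hp.out).2 hpq.symm))
    (Or.inl hRnil)
  have hle : U ≤ lam.ker.map U.subtype := by
    conv_lhs => rw [← hsup]
    refine sup_le (Subgroup.commutator_le.2 fun u hu r hr => ?_) fun c hc => ⟨⟨c, hc.1⟩, hlamC _ hc, rfl⟩
    have hm : r * u⁻¹ * r⁻¹ ∈ U := (inferInstance : U.Normal).conj_mem _ (U.inv_mem hu) r
    refine ⟨⟨u, hu⟩ * ⟨_, hm⟩, ?_, by simp [commutatorElement_def, mul_assoc]⟩
    have h1 := congrFun (CfsgLib.Clifford.mem_inertia.1 (hRIn r hr)) ⟨u⁻¹, U.inv_mem hu⟩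
    rw [CfsgLib.Clifford.conjFun_apply] at h1
    rw [SetLike.mem_coe, MonoidHom.mem_ker, map_mul, show lam ⟨r * u⁻¹ * r⁻¹, hm⟩ = lam ⟨u⁻¹, U.inv_mem hu⟩ from h1,
      ← map_mul, show (⟨u, hu⟩ : U) * ⟨u⁻¹, U.inv_mem hu⟩ = 1 from Subtype.ext (mul_inv_cancel u), map_one]
  refine hne (Subtype.ext (MonoidHom.ext fun u => ?_))
  obtain ⟨u', hu', he⟩ := hle u.2
  rw [← show u' = u from Subtype.ext he]
  exact (MonoidHom.mem_ker.1 hu').symm

theorem not_dvd_aux (hpq : p ≠ q) : ∀ (n : ℕ) (G : Type u) [Group G] [Finite G], Nat.card G = n →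
    Cfsg.IsPSolvable p G → Cfsg.IsPSolvable q G → Cfsg.pPrimeCore p G = ⊥ → DegHyp p q G →
    ¬ q ∣ Nat.card G := by
  intro n
  induction n using Nat.strong_induction_on with
  | _ n ih =>
  intro G _ _ hn hsp hsq h0 hG hqG
  classical
  haveI : Nontrivial G := by
    rcases subsingleton_or_nontrivial G with h | h
    · rw [Nat.card_of_subsingleton (1 : G)] at hqG; exact absurd hqG hq.out.not_dvd_one
    · exact h
  have hU0 : Cfsg.pCore p G ≠ ⊥ := (CfsgLib.PCore.cores_ne_bot hsp).resolve_right fun h => h h0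
  set U := Cfsg.pCore p G with hU
  haveI hUn : U.Normal := Cfsg.pCore_normal p G
  have hUp : IsPGroup p U := CfsgLib.PCore.isPGroup_pCore p G
  set Φ := CfsgLib.HallHigmanB.coreFrattini p G with hΦ
  have hΦU : Φ ≤ U := Subgroup.map_subtype_le _
  set π := QuotientGroup.mk' Φ with hπ
  have hπs := QuotientGroup.mk'_surjective Φ
  set V := U.map π with hV
  haveI : V.Normal := hUn.map π hπs
  have hVab : IsMulCommutative V := ⟨⟨fun x y => by
    obtain ⟨_, a, ha, rfl⟩ := x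
    obtain ⟨_, b, hb, rfl⟩ := y
    refine Subtype.ext ?_
    show π a * π b = π b * π a
    rw [← map_mul, ← map_mul]
    refine QuotientGroup.eq.2 ?_
    refine ⟨((⟨a, ha⟩ : U) * ⟨b, hb⟩)⁻¹ * (⟨b, hb⟩ * ⟨a, ha⟩), ?_, rfl⟩
    refine CfsgLib.CoprimeAction.commutator_le_frattini' hUp ?_
    rw [show ((⟨a, ha⟩ : U) * ⟨b, hb⟩)⁻¹ * (⟨b, hb⟩ * ⟨a, ha⟩) = ⁅(⟨b, hb⟩ : U)⁻¹, (⟨a, ha⟩ : U)⁻¹⁆ by
      rw [commutatorElement_def]; group]
    exact Subgroup.commutator_mem_commutator (Subgroup.mem_top _) (Subgroup.mem_top _)⟩⟩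
  have hcent : Subgroup.centralizer (V : Set (G ⧸ Φ)) ≤ V := by
    intro y hy
    obtain ⟨a, rfl⟩ := hπs y
    exact Subgroup.mem_map_of_mem π (CfsgLib.HallHigmanB.centralizer_topLayer hsp h0 hy)
  set π₂ := QuotientGroup.mk' V with hπ₂
  have hidxV : Nat.card ((G ⧸ Φ) ⧸ V) = U.index := by
    rw [← Subgroup.index_eq_card, hV, Subgroup.index_map_eq U hπs (by rw [QuotientGroup.ker_mk']; exact hΦU)]
  have hcG : Nat.card G = Nat.card U * Nat.card ((G ⧸ Φ) ⧸ V) := by
    rw [hidxV, Subgroup.card_mul_index]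
  have hqQ : q ∣ Nat.card ((G ⧸ Φ) ⧸ V) := by
    obtain ⟨i, hi⟩ := IsPGroup.iff_card.1 hUp
    rw [hcG, hi] at hqG
    exact (hq.out.dvd_mul.1 hqG).resolve_left fun h =>
      hpq ((Nat.prime_dvd_prime_iff_eq hq.out hp.out).1 (hq.out.dvd_of_dvd_pow h)).symm
  set Y := Cfsg.pPrimeCore p ((G ⧸ Φ) ⧸ V) with hY
  haveI hYn : Y.Normal := Cfsg.pPrimeCore_normal p _
  have hf : Function.Surjective ((QuotientGroup.mk' Y).comp (π₂.comp π)) :=
    (QuotientGroup.mk'_surjective Y).comp ((QuotientGroup.mk'_surjective V).comp hπs)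
  by_cases hqY : q ∣ Nat.card Y
  swap
  · have hlt : Nat.card (((G ⧸ Φ) ⧸ V) ⧸ Y) < n := by
      calc Nat.card (((G ⧸ Φ) ⧸ V) ⧸ Y) ≤ Nat.card ((G ⧸ Φ) ⧸ V) := Nat.le_of_dvd Nat.card_pos (Subgroup.card_quotient_dvd_card Y)
        _ < n := by
          rw [← hn, hcG]
          exact lt_mul_of_one_lt_left Nat.card_pos ((Subgroup.one_lt_card_iff_ne_bot U).2 hU0)
    have h := ih _ hlt _ rfl (CfsgLib.PCore.isPSolvable_map hsp _ hf) (CfsgLib.PCore.isPSolvable_map hsq _ hf)
      CfsgLib.PCore.pPrimeCore_quotient (degHyp_map _ hf hG)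
    rw [Subgroup.card_eq_card_quotient_mul_card_subgroup Y] at hqQ
    exact (hq.out.dvd_mul.1 hqQ).elim h hqY
  -- the layer containing the `q`-part
  set L := (Cfsg.pPrimeCore q Y).map Y.subtype with hL
  haveI hLn : L.Normal := by
    haveI := CfsgLib.PCore.pPrimeCore_characteristic q Y
    exact ConjAct.normal_of_characteristic_of_normal
  have hLY : L ≤ Y := Subgroup.map_subtype_le _
  have hLq : ¬ q ∣ Nat.card L := by
    rw [hL, Subgroup.card_map_of_injective Y.subtype_injective]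
    exact CfsgLib.PCore.not_dvd_card_pPrimeCore q Y
  set π₃ := QuotientGroup.mk' L with hπ₃
  have hπ₃s := QuotientGroup.mk'_surjective L
  set Y' := Y.map π₃ with hY'
  haveI hY'n : Y'.Normal := hYn.map π₃ hπ₃s
  have hsqY : Cfsg.IsPSolvable q Y' := CfsgLib.PCore.isPSolvable_subgroup
    (CfsgLib.PCore.isPSolvable_map hsq (π₃.comp (π₂.comp π))
      (hπ₃s.comp ((QuotientGroup.mk'_surjective V).comp hπs))) Y'
  have hY'0 : Y' ≠ ⊥ := by
    intro h
    rw [Subgroup.map_eq_bot_iff, QuotientGroup.ker_mk'] at h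
    exact hLq (hqY.trans (Subgroup.card_dvd_of_le h))
  haveI : Nontrivial Y' := Y'.nontrivial_iff_ne_bot.2 hY'0
  have hEbot : Cfsg.pPrimeCore q Y' = ⊥ := by
    apply (Subgroup.map_eq_bot_iff_of_injective _ Y'.subtype_injective).1
    set E := Cfsg.pPrimeCore q (((G ⧸ Φ) ⧸ V) ⧸ L) ⊓ Y' with hE
    have hmapE : (Cfsg.pPrimeCore q Y').map Y'.subtype = E := CfsgLib.PCore.map_pPrimeCore_normal Y'
    rw [hmapE]
    haveI : (Cfsg.pPrimeCore q (((G ⧸ Φ) ⧸ V) ⧸ L)).Normal := Cfsg.pPrimeCore_normal q _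
    haveI hEn : E.Normal := Subgroup.normal_inf_normal _ _
    set Z := E.comap π₃ with hZ
    have hZY : Z ≤ Y := by
      refine (Subgroup.comap_mono inf_le_right).trans ?_
      rw [hY', Subgroup.comap_map_eq, QuotientGroup.ker_mk', sup_eq_left.2 hLY]
    have hZn : (Z.subgroupOf Y).Normal := inferInstance
    have hZq : ¬ q ∣ Nat.card (Z.subgroupOf Y) := by
      rw [Nat.card_congr (Subgroup.subgroupOfEquivOfLe hZY).toEquiv, hZ, CfsgLib.PCore.card_comap_mk' L E,
        hq.out.dvd_mul]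
      rintro (h | h)
      · exact hLq h
      · exact CfsgLib.PCore.not_dvd_card_pPrimeCore q (((G ⧸ Φ) ⧸ V) ⧸ L)
          (h.trans (Subgroup.card_dvd_of_le inf_le_left))
    have hZL : Z ≤ L := fun z hz =>
      ⟨⟨z, hZY hz⟩, CfsgLib.PCore.le_pPrimeCore_of_not_dvd hZn hZq (Subgroup.mem_subgroupOf.2 hz), rfl⟩
    rw [eq_bot_iff]
    intro y hy
    obtain ⟨z, rfl⟩ := hπ₃s y
    exact Subgroup.mem_bot.2 ((QuotientGroup.eq_one_iff z).2 (hZL hy))
  have hD0 : Cfsg.pCore q Y' ≠ ⊥ := (CfsgLib.PCore.cores_ne_bot hsqY).resolve_right fun h => h hEbot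
  set D := Cfsg.pCore q (((G ⧸ Φ) ⧸ V) ⧸ L) ⊓ Y' with hD
  have hmapD : (Cfsg.pCore q Y').map Y'.subtype = D := CfsgLib.PCore.map_pCore_normal Y'
  haveI : (Cfsg.pCore q (((G ⧸ Φ) ⧸ V) ⧸ L)).Normal := Cfsg.pCore_normal q _
  haveI hDn : D.Normal := Subgroup.normal_inf_normal _ _
  obtain ⟨a, ha⟩ := IsPGroup.iff_card.1 ((CfsgLib.PCore.isPGroup_pCore q _).to_le (inf_le_left : D ≤ _))
  have ha0 : a ≠ 0 := fun h => hD0 ((Subgroup.map_eq_bot_iff_of_injective _ Y'.subtype_injective).1 (by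
    rw [hmapD, ← Subgroup.card_eq_one, ha, h, pow_zero]))
  haveI : (D.comap π₃).Normal := hDn.comap π₃
  have hTY : D.comap π₃ ≤ Y := by
    refine (Subgroup.comap_mono inf_le_right).trans ?_
    rw [hY', Subgroup.comap_map_eq, QuotientGroup.ker_mk', sup_eq_left.2 hLY]
  refine abelian_step hpq V hVab hcent (hUp.map π) (degHyp_map π hπs hG) L (D.comap π₃) ?_ ?_ hLq ha0 ?_
  · exact (QuotientGroup.ker_mk' L).symm.le.trans (Subgroup.comap_mono bot_le)
  · exact fun h => CfsgLib.PCore.not_dvd_card_pPrimeCore p _ (h.trans (Subgroup.card_dvd_of_le hTY))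
  · rw [CfsgLib.PCore.card_comap_mk' L D, ha]

theorem not_dvd {G : Type u} [Group G] [Finite G] (hpq : p ≠ q) (hsp : Cfsg.IsPSolvable p G)
    (hsq : Cfsg.IsPSolvable q G) (h0 : Cfsg.pPrimeCore p G = ⊥) (hG : DegHyp p q G) : ¬ q ∣ Nat.card G :=
  not_dvd_aux hpq _ G rfl hsp hsq h0 hG

/-- The degree hypothesis in the principal block puts the Sylow `q`-subgroups into `O_{p'}`. -/
theorem not_dvd_index {G : Type u} [Group G] [Finite G] (hpq : p ≠ q) {M : Ideal AlgInt} (hM : IsPModular p M)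
    (hsp : Cfsg.IsPSolvable p G) (hsq : Cfsg.IsPSolvable q G)
    (h : ∀ χ : IrrCharacter G, χ ∈ principalBlock M G → ¬ p ∣ charDegree (χ : G → ℂ) →
      ¬ q ∣ charDegree (χ : G → ℂ)) :
    ¬ q ∣ (Cfsg.pPrimeCore p G).index := by
  haveI : (Cfsg.pPrimeCore p G).Normal := Cfsg.pPrimeCore_normal p G
  rw [Subgroup.index_eq_card]
  refine not_dvd hpq (CfsgLib.PCore.isPSolvable_quotient hsp _) (CfsgLib.PCore.isPSolvable_quotient hsq _)
    CfsgLib.PCore.pPrimeCore_quotient fun χ hχ => ?_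
  let χ' : IrrCharacter G := ⟨fun g => (χ : G ⧸ Cfsg.pPrimeCore p G → ℂ) (QuotientGroup.mk' (Cfsg.pPrimeCore p G) g),
    CfsgLib.Clifford.isIrrCharacter_comp χ.2 _ (QuotientGroup.mk'_surjective _)⟩
  have hd : charDegree (χ' : G → ℂ) = charDegree (χ : G ⧸ Cfsg.pPrimeCore p G → ℂ) := by
    simp only [χ', charDegree, map_one]
  have hb : χ' ∈ principalBlock M G := (CfsgLib.Blocks.PrincipalSolvable.mem_iff_core hM hsp χ').2 fun n hn => by
    show (χ : G ⧸ Cfsg.pPrimeCore p G → ℂ) _ = (χ : G ⧸ Cfsg.pPrimeCore p G → ℂ) _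
    rw [map_one, show QuotientGroup.mk' (Cfsg.pPrimeCore p G) n = 1 from (QuotientGroup.eq_one_iff n).2 hn]
  have := h χ' hb
  rw [hd] at this
  exact this hχ

/-- If a Sylow `p`- and a Sylow `q`-subgroup commute, the degrees in the principal block are prime to `q`. -/
theorem degree_of_commute {G : Type u} [Group G] [Finite G] (hpq : p ≠ q) {M : Ideal AlgInt} (hM : IsPModular p M)
    (hsp : Cfsg.IsPSolvable p G) (P : Sylow p G) (Q : Sylow q G)
    (hPQ : ∀ x ∈ (P : Subgroup G), ∀ y ∈ (Q : Subgroup G), x * y = y * x) (χ : IrrCharacter G)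
    (hχ : χ ∈ principalBlock M G) : ¬ q ∣ charDegree (χ : G → ℂ) := by
  haveI : (Cfsg.pPrimeCore p G).Normal := Cfsg.pPrimeCore_normal p G
  obtain ⟨ψ, hψ⟩ := exists_quotient_irr χ (Cfsg.pPrimeCore p G)
    ((CfsgLib.Blocks.PrincipalSolvable.mem_iff_core hM hsp χ).1 hχ)
  set π := QuotientGroup.mk' (Cfsg.pPrimeCore p G) with hπ
  have hπs := QuotientGroup.mk'_surjective (Cfsg.pPrimeCore p G)
  have hd : charDegree (χ : G → ℂ) = charDegree (ψ : G ⧸ Cfsg.pPrimeCore p G → ℂ) := by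
    simp only [charDegree]
    rw [← hψ 1]; rfl
  rw [hd]
  intro hq'
  have hqd := hq'.trans (degree_dvd ψ)
  set Qb := Sylow.mapSurjective hπs Q with hQb
  set Pb := Sylow.mapSurjective hπs P with hPb
  have hle : (Qb : Subgroup (G ⧸ Cfsg.pPrimeCore p G)) ≤ Cfsg.pCore p (G ⧸ Cfsg.pPrimeCore p G) := by
    refine le_trans (fun y hy => ?_)
      (CfsgLib.PCore.hall_higman (CfsgLib.PCore.isPSolvable_quotient hsp _) CfsgLib.PCore.pPrimeCore_quotient)
    rw [Subgroup.mem_centralizer_iff]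
    intro x hx
    have hx' := CfsgLib.PCore.pCore_le_sylow Pb hx
    rw [hPb, Sylow.coe_mapSurjective] at hx'
    rw [hQb, Sylow.coe_mapSurjective] at hy
    obtain ⟨x, hxP, rfl⟩ := hx'
    obtain ⟨y, hyQ, rfl⟩ := hy
    rw [← map_mul, ← map_mul, hPQ x hxP y hyQ]
  have h1 := Qb.dvd_card_of_dvd_card hqd
  obtain ⟨i, hi⟩ := IsPGroup.iff_card.1 ((CfsgLib.PCore.isPGroup_pCore p _).to_le hle)
  rw [hi] at h1
  exact hpq ((Nat.prime_dvd_prime_iff_eq hq.out hp.out).1 (hq.out.dvd_of_dvd_pow h1)).symm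

theorem sylow_le {G : Type*} [Group G] [Finite G] {r : ℕ} [Fact r.Prime] (N : Subgroup G) [N.Normal]
    (h : ¬ r ∣ N.index) (R : Subgroup G) (hR : IsPGroup r R) : R ≤ N :=
  CfsgLib.Hall.sylow_le_of_normal_not_dvd N h hR

/-- The main equivalence. -/
theorem commute_iff {G : Type u} [Group G] [Finite G] (hpq : p ≠ q) {Mp Mq : Ideal AlgInt}
    (hMp : IsPModular p Mp) (hMq : IsPModular q Mq) (hsp : Cfsg.IsPSolvable p G) (hsq : Cfsg.IsPSolvable q G) :
    ((∀ χ : IrrCharacter G, χ ∈ principalBlock Mp G → ¬ p ∣ charDegree (χ : G → ℂ) →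
        ¬ q ∣ charDegree (χ : G → ℂ)) ∧
      (∀ χ : IrrCharacter G, χ ∈ principalBlock Mq G → ¬ q ∣ charDegree (χ : G → ℂ) →
        ¬ p ∣ charDegree (χ : G → ℂ))) ↔
      ∃ (P : Sylow p G) (Q : Sylow q G), ∀ x ∈ (P : Subgroup G), ∀ y ∈ (Q : Subgroup G), x * y = y * x := by
  constructor
  · rintro ⟨h1, h2⟩
    have hq' := not_dvd_index hpq hMp hsp hsq h1
    have hp' := not_dvd_index hpq.symm hMq hsq hsp h2
    set K := Cfsg.pPrimeCore p G with hK
    haveI : K.Normal := Cfsg.pPrimeCore_normal p G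
    set O := Cfsg.pPrimeCore q G with hO
    haveI : O.Normal := Cfsg.pPrimeCore_normal q G
    obtain ⟨P⟩ : Nonempty (Sylow p G) := inferInstance
    obtain ⟨i, hi⟩ := IsPGroup.iff_card.1 P.2
    have hsolv : Group.IsSolvable (P : Subgroup G) := by haveI := P.2.isNilpotent; infer_instance
    obtain ⟨Q₀, hQ₀⟩ := CfsgLib.CoprimeAction.exists_invariant_sylow (A := (P : Subgroup G)) (K := K)
      (by rw [Subgroup.normalizer_eq_top_iff.2 ‹K.Normal›]; exact le_top)
      (by rw [hi]; exact (CfsgLib.PCore.pPrimeCore_coprime p G).symm.pow_left i) (Or.inl hsolv) q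
    set R := (Q₀ : Subgroup K).map K.subtype with hR
    have hRc : Nat.card R = q ^ (Nat.card G).factorization q := by
      rw [hR, Subgroup.card_map_of_injective K.subtype_injective, Q₀.card_eq_multiplicity]
      congr 1
      rw [← Subgroup.card_mul_index K, Nat.factorization_mul Nat.card_pos.ne' Subgroup.index_ne_zero_of_finite,
        Finsupp.add_apply, Nat.factorization_eq_zero_of_not_dvd hq', add_zero]
    refine ⟨P, Sylow.ofCard R hRc, fun x hx y hy => ?_⟩
    rw [Sylow.coe_ofCard] at hy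
    have hxO : x ∈ O := sylow_le O hp' _ P.2 hx
    have h3 : x * y * x⁻¹ * y⁻¹ ∈ R ⊓ O := by
      refine ⟨R.mul_mem ((Subgroup.mem_normalizer_iff.1 (hQ₀ hx) y).1 hy) (R.inv_mem hy), ?_⟩
      rw [mul_assoc, mul_assoc, ← mul_assoc y]
      exact O.mul_mem hxO ((inferInstance : O.Normal).conj_mem _ (O.inv_mem hxO) y)
    rw [Subgroup.inf_eq_bot_of_coprime (by
      rw [hRc]; exact (CfsgLib.PCore.pPrimeCore_coprime q G).symm.pow_left _), Subgroup.mem_bot,
      mul_inv_eq_one, mul_inv_eq_iff_eq_mul] at h3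
    exact h3
  · rintro ⟨P, Q, hPQ⟩
    exact ⟨fun χ hχ _ => degree_of_commute hpq hMp hsp P Q hPQ χ hχ,
      fun χ hχ _ => degree_of_commute hpq.symm hMq hsq Q P (fun x hx y hy => (hPQ y hy x hx).symm) χ hχ⟩

end CfsgLib.PQDegree
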